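import Cfsg.Agent.Lib.InvChar.SporData.SzA.Data
import Cfsg.Agent.Lib.InvChar.CosetPerm

set_option autoImplicit false
set_option maxRecDepth 100000

namespace CfsgLib.InvChar.Coset.SzA

theorem chk_points0 : table.chkPoints rels 1000 0 = true := by decide +kernel

theorem chk_points1 : table.chkPoints rels 1000 1000 = true := by decide +kernel

theorem chk_points2 : table.chkPoints rels 1000 2000 = true := by decide +kernel

theorem chk_points3 : table.chkPoints rels 1000 3000 = true := by decide +kernel

theorem chk_points4 : table.chkPoints rels 480 4000 = true := by decide +kernel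

theorem valid : table.Valid rels := by
  have key : ∀ i < 4480, (∀ x < table.g, table.app i x < table.n) ∧ ∀ L ∈ rels, table.follow L i = i := by
    intro i hi
    rcases Nat.lt_or_ge i 1000 with h0 | h0
    · exact table.chkPoints_get rels 1000 0 chk_points0 i (by omega) (by omega)
    rcases Nat.lt_or_ge i 2000 with h1 | h1
    · exact table.chkPoints_get rels 1000 1000 chk_points1 i (by omega) (by omega)
    rcases Nat.lt_or_ge i 3000 with h2 | h2
    · exact table.chkPoints_get rels 1000 2000 chk_points2 i (by omega) (by omega)
    rcases Nat.lt_or_ge i 4000 with h3 | h3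
    · exact table.chkPoints_get rels 1000 3000 chk_points3 i (by omega) (by omega)
    rcases Nat.lt_or_ge i 4480 with h4 | h4
    · exact table.chkPoints_get rels 480 4000 chk_points4 i (by omega) (by omega)
    omega
  exact ⟨fun i hi => (key i hi).1, fun i hi => (key i hi).2⟩

end CfsgLib.InvChar.Coset.SzA
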